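import Groth.Agent.DCohPerf.FlatFP
import Groth.Agent.CohFinite.DevissageGen
import Groth.Agent.ModGroth.StalkTensor
import Groth.Agent.ProjDim.Regular
import Groth.Agent.QCohLib.Coherent

/-!
Syzygies on regular schemes.
-/

set_option autoImplicit false

universe u v

open CategoryTheory CategoryTheory.Limits AlgebraicGeometry

namespace Groth.Agent.RegSyz

variable {C : Type u} [Category.{v} C] [Abelian C]

/-- The kernels of the maps of an exact sequence with projective middle terms. -/
lemma kernel_pd {m : ℕ} (S : ComposableArrows C (m + 1)) (hS : S.Exact)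
    (hepi : Epi (S.map' m (m + 1) (Nat.le_succ m) le_rfl))
    (hE : ∀ i : ℕ, 1 ≤ i → ∀ h : i ≤ m, HasProjectiveDimensionLT (S.obj' i (by omega)) 1)
    (hF : HasProjectiveDimensionLT (S.obj' (m + 1) le_rfl) (m + 1)) :
    ∀ (k i : ℕ) (h : i + k = m), 1 ≤ i →
      HasProjectiveDimensionLT (kernel (S.map' i (i + 1) (by omega) (by omega))) i := by
  intro k
  induction k with
  | zero =>
    intro i h hi
    obtain rfl : i = m := by omega
    let T := ShortComplex.mk (kernel.ι (S.map' i (i + 1) (by omega) (by omega)))
      (S.map' i (i + 1) (by omega) (by omega)) (kernel.condition _)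
    have : Epi T.g := hepi
    have hT : T.ShortExact :=
      { exact := ShortComplex.exact_of_f_is_kernel _ (kernelIsKernel _) }
    have : HasProjectiveDimensionLT T.X₂ 1 := hE i hi (by omega)
    have : HasProjectiveDimensionLT T.X₂ i := hasProjectiveDimensionLT_of_ge T.X₂ 1 i hi
    exact hT.hasProjectiveDimensionLT_X₁ i this hF
  | succ k ih =>
    intro i h hi
    have hk := ih (i + 1) (by omega) (by omega)
    let g := kernel.lift (S.map' (i + 1) (i + 2) (by omega) (by omega))
      (S.map' i (i + 1) (by omega) (by omega)) (hS.toIsComplex.zero i (by omega))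
    have hg : Epi g := (ShortComplex.exact_iff_epi_kernel_lift _).1 (hS.exact i (by omega))
    let T := ShortComplex.mk (kernel.ι (S.map' i (i + 1) (by omega) (by omega))) g
      (by rw [← cancel_mono (kernel.ι _)]; simp [g])
    have : Epi T.g := hg
    have hT : T.ShortExact :=
      { exact := ShortComplex.exact_of_f_is_kernel _ (KernelFork.IsLimit.ofι _ _
          (fun a ha => kernel.lift _ a (by
            rw [← kernel.lift_ι (S.map' (i + 1) (i + 2) (by omega) (by omega))
              (S.map' i (i + 1) (by omega) (by omega)) (hS.toIsComplex.zero i (by omega)), reassoc_of% ha, zero_comp]))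
          (fun a ha => kernel.lift_ι _ _ _)
          (fun a ha b hb => by rw [← cancel_mono (kernel.ι _), kernel.lift_ι]; exact hb)) }
    have : HasProjectiveDimensionLT T.X₂ 1 := hE i hi (by omega)
    have : HasProjectiveDimensionLT T.X₂ i := hasProjectiveDimensionLT_of_ge T.X₂ 1 i hi
    exact hT.hasProjectiveDimensionLT_X₁ i this hk

/-- The first term of an exact sequence with projective middle terms is projective. -/
lemma first_projective {m : ℕ} (S : ComposableArrows C (m + 1)) (hS : S.Exact)
    (hmono : Mono (S.map' 0 1 (Nat.zero_le 1) (by omega)))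
    (hepi : Epi (S.map' m (m + 1) (Nat.le_succ m) le_rfl))
    (hE : ∀ i : ℕ, 1 ≤ i → ∀ h : i ≤ m, HasProjectiveDimensionLT (S.obj' i (by omega)) 1)
    (hF : HasProjectiveDimensionLT (S.obj' (m + 1) le_rfl) (m + 1)) :
    HasProjectiveDimensionLT (S.obj' 0 (by omega)) 1 := by
  cases m with
  | zero =>
    have := hmono
    have := hepi
    have : IsIso (S.map' 0 1 (by omega) (by omega)) := isIso_of_mono_of_epi _
    have : HasProjectiveDimensionLT (S.obj' 1 le_rfl) 1 := hF
    exact hasProjectiveDimensionLT_of_iso (asIso (S.map' 0 1 (Nat.zero_le 1) (le_refl 1))).symm 1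
  | succ n =>
    have h1 := kernel_pd S hS hepi hE hF n 1 (by omega) le_rfl
    have h2 : IsLimit (KernelFork.ofι (S.map' 0 1 (by omega) (by omega)) (hS.toIsComplex.zero 0 (by omega))) := by
      have hk0 : 0 + 2 ≤ n + 1 + 1 := by omega
      have : Mono (S.sc hS.toIsComplex 0).f := hmono
      exact (hS.exact 0 hk0).fIsKernel
    have hk1 : (1:ℕ) ≤ 2 := by omega
    have hk2 : (2:ℕ) ≤ n + 1 + 1 := by omega
    have : HasProjectiveDimensionLT (kernel (S.map' 1 2 hk1 hk2)) 1 := h1
    exact hasProjectiveDimensionLT_of_iso (X := kernel (S.map' 1 2 hk1 hk2))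
      ((kernelIsKernel (S.map' 1 2 hk1 hk2)).conePointUniqueUpToIso h2) 1

lemma ringKrullDim_stalk_le {X : Scheme.{u}} (x : X) :
    ringKrullDim (X.presheaf.stalk x) ≤ topologicalKrullDim X := by
  rw [← PrimeSpectrum.topologicalKrullDim_eq_ringKrullDim]
  exact (X.fromSpecStalk x).isEmbedding.isInducing.topologicalKrullDim_le

lemma gldim_le (R : Type u) [CommRing R] [IsRegularLocalRing R] (m : ℕ)
    (h : ringKrullDim R ≤ (m : WithBot ℕ∞)) (M : ModuleCat.{u} R) : HasProjectiveDimensionLT M (m + 1) := by
  obtain ⟨d, hd⟩ : ∃ d : ℕ, ringKrullDim R = d := ⟨_, (IsRegularLocalRing.spanFinrank_maximalIdeal (R := R)).symm⟩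
  have hdm : d ≤ m := by
    rw [hd] at h
    exact_mod_cast h
  have := ProjDim.gldim_le_of_regularLocal R d hd M
  exact hasProjectiveDimensionLT_of_ge M (d + 1) (m + 1) (by omega)

end Groth.Agent.RegSyz
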